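import Mathlib
import Groth.Agent.PurIso.Punctured
import Groth.Agent.SchTop.ZeroDim

/-!
# Affineness of punctured spectra and of complements
-/

set_option autoImplicit false
set_option linter.style.haveILetI false
set_option backward.isDefEq.respectTransparency.types false
universe u

open AlgebraicGeometry CategoryTheory IsLocalRing

namespace Groth.Agent.PuncDim

theorem mem_minimalPrimes_of_dim_le_one {A : Type u} [CommRing A] [IsLocalRing A]
    (hd : ringKrullDim A ≤ 1) (p : PrimeSpectrum A) (hp : p ≠ closedPoint A) :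
    p.asIdeal ∈ minimalPrimes A := by
  refine ⟨⟨p.2, bot_le⟩, fun q hq hle => ?_⟩
  by_contra hne
  have h1 : (⟨q, hq.1⟩ : PrimeSpectrum A) < p := lt_of_le_of_ne hle fun h => hne (le_of_eq (congrArg PrimeSpectrum.asIdeal h).symm)
  have h2 : p < closedPoint A := lt_of_le_of_ne (IsLocalRing.le_maximalIdeal p.2.ne_top) hp
  let l : LTSeries (PrimeSpectrum A) :=
    { length := 2
      toFun := ![(⟨q, hq.1⟩ : PrimeSpectrum A), p, closedPoint A]
      step := fun i => by fin_cases i; · exact h1
                          · exact h2 }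
  have := (Order.LTSeries.length_le_krullDim l).trans hd
  exact absurd this (by simp only [l]; decide)

theorem isAffineOpen_puncturedSpec {A : Type u} [CommRing A] [IsLocalRing A] [IsNoetherianRing A]
    (hd : ringKrullDim A ≤ 1) : IsAffineOpen (FEt.puncturedSpec A) := by
  let U := FEt.puncturedSpec A
  haveI : Finite U.toScheme := by
    refine Set.Finite.to_subtype (s := ((U : Set (Spec (CommRingCat.of A))) : Set (PrimeSpectrum A))) ?_
    refine ((minimalPrimes.finite_of_isNoetherianRing A).preimage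
      (fun x _ y _ h => PrimeSpectrum.ext h)).subset fun p hp => ?_
    exact mem_minimalPrimes_of_dim_le_one hd p hp
  haveI : T1Space U.toScheme := ⟨fun x => by
    rw [isClosed_iff_nhds]
    intro y hy
    have hsp : x ⤳ y := by
      rw [specializes_iff_mem_closure]
      exact mem_closure_iff_nhds.2 fun t ht => hy t ht
    have h := hsp.map U.ι.continuous
    have hle : (U.ι x : PrimeSpectrum A).asIdeal ≤ (U.ι y : PrimeSpectrum A).asIdeal :=
      (PrimeSpectrum.le_iff_specializes _ _).2 h
    have hmin := mem_minimalPrimes_of_dim_le_one hd (U.ι y : PrimeSpectrum A) y.2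
    refine Set.mem_singleton_iff.2 (U.ι.isOpenEmbedding.injective ?_)
    exact PrimeSpectrum.ext (le_antisymm (hmin.2 ⟨(U.ι x : PrimeSpectrum A).2, bot_le⟩ hle) hle)⟩
  haveI : DiscreteTopology U.toScheme := inferInstance
  haveI : Nonempty (Spec (CommRingCat.of A)) := ⟨(closedPoint A : PrimeSpectrum A)⟩
  have h := SchTop.isAffineOpen_of_isCompact (topologicalKrullDim_zero_of_discreteTopology U.toScheme)
    (U := (⊤ : U.toScheme.Opens)) (Set.toFinite _).isCompact
  show IsAffineOpen U
  rw [← Scheme.Opens.ι_image_top U]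
  exact h.image_of_isOpenImmersion U.ι

theorem isAffine_puncturedSpec_iff (A : Type u) [CommRing A] [IsLocalRing A] [IsNoetherianRing A] :
    IsAffine (FEt.puncturedSpec A : Scheme.{u}) ↔ ringKrullDim A ≤ 1 := by
  refine ⟨fun h => ?_, fun h => isAffineOpen_puncturedSpec h⟩
  by_contra hd
  refine PurIso.not_isAffineOpen_puncturedSpec ?_ h
  exact Order.succ_le_of_lt (not_le.1 hd)

/-- Maximal points of the complement of an open with affine inclusion have codimension at most one. -/
theorem ringKrullDim_le_one_of_isAffineHom (X : Scheme.{u}) [IsLocallyNoetherian X] (U : X.Opens)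
    [IsAffineHom U.ι] (ξ : X) (hξ : ξ ∉ U) (hgen : ∀ y : X, y ∉ U → y ⤳ ξ → y = ξ) :
    ringKrullDim (X.presheaf.stalk ξ) ≤ 1 := by
  let A := X.presheaf.stalk ξ
  let g := X.fromSpecStalk ξ
  have hU : g ⁻¹ᵁ U = FEt.puncturedSpec A := by
    refine TopologicalSpace.Opens.ext (Set.ext fun p => ⟨fun hp hpc => ?_, fun hp => ?_⟩)
    · have : g p = ξ := by
        rw [show p = (closedPoint A : PrimeSpectrum A) from hpc]
        exact Scheme.fromSpecStalk_closedPoint
      exact hξ (this ▸ hp)
    · show g p ∈ U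
      by_contra h
      have hs : g p ⤳ ξ := by
        have h2 : p ⤳ (closedPoint A : PrimeSpectrum A) := IsLocalRing.specializes_closedPoint _
        exact (h2.map g.continuous).trans (specializes_of_eq Scheme.fromSpecStalk_closedPoint)
      refine hp (show p = (closedPoint A : PrimeSpectrum A) from g.isEmbedding.injective ?_)
      exact (hgen _ h hs).trans Scheme.fromSpecStalk_closedPoint.symm
  haveI : IsAffineHom (g ⁻¹ᵁ U).ι :=
    MorphismProperty.of_isPullback (P := @IsAffineHom) (isPullback_morphismRestrict g U) ‹_›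
  have haff : IsAffineOpen (g ⁻¹ᵁ U) := (isAffine_of_isAffineHom (g ⁻¹ᵁ U).ι :)
  exact (isAffine_puncturedSpec_iff A).1 (hU ▸ haff)

/-- A point outside a dense open has positive codimension. -/
theorem one_le_ringKrullDim_of_dense (X : Scheme.{u}) [IsLocallyNoetherian X] (U : X.Opens)
    (hU : Dense (U : Set X)) (ξ : X) (hξ : ξ ∉ U) : 1 ≤ ringKrullDim (X.presheaf.stalk ξ) := by
  classical
  by_contra hlt
  obtain ⟨D, hD, hxD, -⟩ := exists_isAffineOpen_mem_and_subset (x := ξ) (U := ⊤) trivial
  haveI : IsNoetherianRing Γ(X, D) := IsLocallyNoetherian.component_noetherian ⟨D, hD⟩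
  let P := hD.primeIdealOf ⟨ξ, hxD⟩
  have hPmin : P.asIdeal ∈ minimalPrimes Γ(X, D) := by
    obtain ⟨e⟩ := SchTop.nonempty_stalk_equiv hD hxD
    rw [ringKrullDim_eq_of_ringEquiv e, IsLocalization.AtPrime.ringKrullDim_eq_height P.asIdeal] at hlt
    rw [← Ideal.height_eq_zero_iff]
    · have h : P.asIdeal.height < 1 := by
        have := not_le.1 hlt
        exact_mod_cast this
      exact ENat.lt_one_iff_eq_zero.1 h
  let W : Set (PrimeSpectrum Γ(X, D)) :=
    (⋃ q ∈ (minimalPrimes Γ(X, D)) \ {P.asIdeal}, PrimeSpectrum.zeroLocus (q : Set Γ(X, D)))ᶜ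
  have hW : IsOpen W := ((minimalPrimes.finite_of_isNoetherianRing Γ(X, D)).sdiff.isClosed_biUnion
    fun q _ => PrimeSpectrum.isClosed_zeroLocus _).isOpen_compl
  have hPW : P ∈ W := by
    simp only [W, Set.mem_compl_iff, Set.mem_iUnion, not_exists]
    intro q hq hqP
    exact hq.2 (le_antisymm hqP (hPmin.2 ⟨hq.1.1.1, bot_le⟩ hqP))
  let W' : Set X := hD.fromSpec '' W
  have hW' : IsOpen W' := hD.fromSpec.isOpenEmbedding.isOpenMap _ hW
  obtain ⟨y, ⟨p, hpW, rfl⟩, hyU⟩ :=
    hU.inter_open_nonempty W' hW' ⟨_, P, hPW, rfl⟩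
  obtain ⟨q, hq, hqp⟩ := Ideal.exists_minimalPrimes_le (I := ⊥) (J := (p : PrimeSpectrum Γ(X, D)).asIdeal) bot_le
  have hqP : q = P.asIdeal := by
    by_contra hne
    exact hpW (Set.mem_biUnion (show q ∈ minimalPrimes Γ(X, D) \ {P.asIdeal} from ⟨hq, hne⟩) hqp)
  have hsp : hD.fromSpec P ⤳ hD.fromSpec p :=
    ((PrimeSpectrum.le_iff_specializes _ _).1 (show P.asIdeal ≤ _ from hqP ▸ hqp)).map hD.fromSpec.continuous
  refine hξ ?_
  have hmem := hsp.mem_open U.isOpen hyU
  rw [hD.fromSpec_primeIdealOf ⟨ξ, hxD⟩] at hmem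
  exact hmem

end Groth.Agent.PuncDim
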